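import Cfsg.Agent.Helper28.Fi23C.Main
import Cfsg.Agent.Helper28.Fi22C.Main
import Cfsg.Agent.Helper28.DoubleCover
set_option autoImplicit false
set_option maxRecDepth 100000
set_option linter.constructorNameAsVariable false
namespace Cfsg.Agent.Helper28.Fi23D
open Cfsg.Agent.Helper28 Cfsg.Spor

/-- the generators `a, …, i` of the sub-diagram of `Fi23` as generators of `Fi22` -/
def jota : Fi23P1D.Gen → Fi22.Gen
  | .a => .a | .b => .b | .c => .c | .d => .d | .e => .e | .f => .f | .g => .g | .h => .h | .i => .i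

theorem jcox : ∀ x ∈ coxNodes Fi23P1D.edges, ∀ y ∈ coxNodes Fi23P1D.edges,
    jota x ∈ coxNodes Fi22.edges ∧ jota y ∈ coxNodes Fi22.edges ∧
      coxLabel Fi23P1D.edges x y = coxLabel Fi22.edges (jota x) (jota y) := by decide

theorem jextra : ∀ r ∈ Fi23P1D.extra, FreeGroup.map jota r ∈ Fi22.extra := by decide +kernel

theorem jrels : ∀ r ∈ Fi23P1.R, PresentedGroup.mk Fi22b.R (FreeGroup.map jota r) = 1 :=
  subdiagram_rels jota Fi23P1D.edges Fi23P1D.extra Fi22.edges Fi22.extra jcox
    (fun r hr => Or.inr (jextra r hr))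

/-- the sub-diagram group maps onto `Fi22` -/
noncomputable def psi : PresentedGroup Fi23P1.R →* PresentedGroup Fi22b.R :=
  subHom jota Fi23P1.R Fi22b.R jrels

theorem jota_surj : Function.Surjective jota := by
  intro y
  cases y
  exacts [⟨.a, rfl⟩, ⟨.b, rfl⟩, ⟨.c, rfl⟩, ⟨.d, rfl⟩, ⟨.e, rfl⟩, ⟨.f, rfl⟩, ⟨.g, rfl⟩, ⟨.h, rfl⟩, ⟨.i, rfl⟩]

theorem psi_surj : Function.Surjective psi := by
  rw [← MonoidHom.range_eq_top]
  unfold psi
  rw [subHom_range jota Fi23P1.R Fi22b.R jrels (Set.range fun z => FreeGroup.of (jota z)) rfl]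
  have h1 : Set.range (fun z => FreeGroup.of (jota z)) = Set.range (FreeGroup.of (α := Fi22.Gen)) := by
    ext w
    constructor
    · rintro ⟨z, rfl⟩; exact ⟨jota z, rfl⟩
    · rintro ⟨y, rfl⟩
      obtain ⟨z, rfl⟩ := jota_surj y
      exact ⟨z, rfl⟩
  unfold HH
  rw [h1, FreeGroup.closure_range_of, ← MonoidHom.range_eq_map, MonoidHom.range_eq_top]
  exact PresentedGroup.mk_surjective _

/-- the sub-diagram group maps into `Fi23` -/
noncomputable def phi : PresentedGroup Fi23P1.R →* PresentedGroup Fi23a.R :=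
  subHom Fi23P1D.iota Fi23P1.R Fi23a.R Fi23P1D.hrels

theorem phi_range : phi.range = HH Fi23a.R Fi23a.Y :=
  subHom_range Fi23P1D.iota Fi23P1.R Fi23a.R Fi23P1D.hrels Fi23a.Y Fi23C.hY0

theorem card_H : Nat.card (HH Fi23a.R Fi23a.Y) = 129123503308800 := by
  have h1 := Subgroup.card_mul_index (HH Fi23a.R Fi23a.Y)
  rw [Fi23a.main_index, Fi23C.card_inj.1] at h1
  have h2 : 129123503308800 * 31671 = 4089470473293004800 := by norm_num
  exact Nat.eq_of_mul_eq_mul_right (by norm_num : 0 < 31671) (h1.trans h2.symm)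

theorem finite_H : Finite (HH Fi23a.R Fi23a.Y) :=
  Nat.finite_of_card_ne_zero (by rw [card_H]; norm_num)

theorem phi_bij : Function.Bijective phi.rangeRestrict := by
  have hf : Finite (PresentedGroup Fi23P1.R) := Fi23C.upper1.1
  rw [Nat.bijective_iff_surjective_and_card]
  refine ⟨MonoidHom.rangeRestrict_surjective _, ?_⟩
  have h1 : Nat.card phi.range ≤ Nat.card (PresentedGroup Fi23P1.R) :=
    Nat.card_le_card_of_surjective _ (MonoidHom.rangeRestrict_surjective phi)
  have h2 := Fi23C.upper1.2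
  have h3 : Nat.card phi.range = 129123503308800 := by rw [phi_range]; exact card_H
  have h4 : 14080 * (3159 * (576 * 5040)) = 129123503308800 := by norm_num
  rw [h4] at h2
  rw [h3] at h1 ⊢
  exact le_antisymm h2 h1

/-- the isomorphism of the sub-diagram group with the subgroup of `Fi23` -/
noncomputable def eH : PresentedGroup Fi23P1.R ≃* HH Fi23a.R Fi23a.Y :=
  (MulEquiv.ofBijective phi.rangeRestrict phi_bij).trans (MulEquiv.subgroupCongr phi_range)

/-- the covering map -/
noncomputable def piH : HH Fi23a.R Fi23a.Y →* PresentedGroup Fi22b.R :=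
  psi.comp eH.symm.toMonoidHom

theorem piH_surj : Function.Surjective piH := by
  intro y
  obtain ⟨x, rfl⟩ := psi_surj y
  exact ⟨eH x, by simp [piH]⟩

theorem card_ker : Nat.card piH.ker = 2 := by
  have h1 := Subgroup.card_mul_index piH.ker
  rw [Subgroup.index_ker, MonoidHom.range_eq_top.mpr piH_surj, Subgroup.card_top, card_H,
    Fi22C.card_inj.1] at h1
  have h2 : 2 * 64561751654400 = 129123503308800 := by norm_num
  exact Nat.eq_of_mul_eq_mul_right (by norm_num : 0 < 64561751654400) (h1.trans h2.symm)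

end Cfsg.Agent.Helper28.Fi23D
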