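import Cfsg.Agent.Helper28.Fi23D.Perfect
set_option autoImplicit false
namespace Cfsg.Agent.Helper28.Fi23D
open Cfsg.Agent.Helper28 Cfsg.Spor

theorem hperfH (L : Subgroup (HH Fi23a.R Fi23a.Y)) (hL : L.index = 2) : False :=
  no_index_two (L.comap eH.toMonoidHom) (by
    rw [Subgroup.index_comap_of_surjective _ eH.surjective]; exact hL)

theorem center_fi22 : Subgroup.center (PresentedGroup Fi22b.R) = ⊥ := by
  have : Finite (PresentedGroup Fi22b.R) := Fi22C.upper.1
  exact center_eq_bot_of_simple Fi22C.simple (by rw [Fi22C.card_inj.1]; norm_num)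

theorem main : Cfsg.IsNonsplitDoubleCover (HH Fi23a.R Fi23a.Y) (PresentedGroup Fi22b.R) := by
  have : Finite (HH Fi23a.R Fi23a.Y) := finite_H
  exact isNonsplitDoubleCover_of_hom piH piH_surj card_ker center_fi22 hperfH

theorem aux (Y' : Set (FreeGroup Fi23.Gen)) (hY : Y' = {y | y ∈ Fi23a.Ylist}) :
    Cfsg.IsNonsplitDoubleCover (HH Fi23a.R Y') (PresentedGroup Fi22b.R) := by
  subst hY
  exact main

end Cfsg.Agent.Helper28.Fi23D
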