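import Cfsg.Agent.Helper28.Fi23D.Cover
set_option autoImplicit false
set_option maxRecDepth 100000
set_option linter.constructorNameAsVariable false
namespace Cfsg.Agent.Helper28.Fi23D
open Cfsg.Agent.Helper28 Cfsg.Spor

theorem eq_of_edge3 {Q : Type*} [Group Q] (hc : ∀ u v : Q, u * v = v * u) (s t : Q)
    (hs : s * s = 1) (ht : t * t = 1) (h3 : (s * t) ^ 3 = 1) : s = t := by
  have h2 : (s * t) ^ 2 = 1 := by
    rw [pow_two]
    calc s * t * (s * t) = s * (t * s) * t := by group
      _ = s * (s * t) * t := by rw [hc t s]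
      _ = (s * s) * (t * t) := by group
      _ = 1 := by rw [hs, ht, one_mul]
  have h1 : s * t = 1 := by
    have : (s * t) ^ 3 = (s * t) ^ 2 * (s * t) := pow_succ _ 2
    rw [this, h2, one_mul] at h3
    exact h3
  have : s = t⁻¹ := eq_inv_of_mul_eq_one_left h1
  rw [this]
  exact inv_eq_of_mul_eq_one_left ht

/-- the relator of a pair of nodes -/
theorem cox_rel (x y : Fi23P1D.Gen) (hx : x ∈ coxNodes Fi23P1D.edges) (hy : y ∈ coxNodes Fi23P1D.edges)
    (m : ℕ) (hm : coxLabel Fi23P1D.edges x y = m) :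
    (PresentedGroup.mk Fi23P1.R (FreeGroup.of x) * PresentedGroup.mk Fi23P1.R (FreeGroup.of y)) ^ m = 1 := by
  rw [← map_mul, ← map_pow, PresentedGroup.mk_eq_one_iff]
  apply Subgroup.subset_normalClosure
  left
  exact ⟨x, hx, y, hy, by rw [hm]⟩

theorem extra1 : Fi23P1D.extra.getD 1 1 =
    (Fi23P1D.a * Fi23P1D.b * Fi23P1D.c * Fi23P1D.d * Fi23P1D.e * Fi23P1D.f * Fi23P1D.h) ^ 9 := by
  decide +kernel

theorem extra1_mem : (Fi23P1D.a * Fi23P1D.b * Fi23P1D.c * Fi23P1D.d * Fi23P1D.e * Fi23P1D.f * Fi23P1D.h) ^ 9 ∈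
    Fi23P1.R := by
  right
  rw [← extra1]
  show Fi23P1D.extra.getD 1 1 ∈ Fi23P1D.extra
  rw [List.getD_eq_getElem _ _ (by decide)]
  exact List.getElem_mem _

theorem no_index_two (L : Subgroup (PresentedGroup Fi23P1.R)) (hL : L.index = 2) : False := by
  have hN : L.Normal := Subgroup.normal_of_index_eq_two hL
  let q : PresentedGroup Fi23P1.R →* PresentedGroup Fi23P1.R ⧸ L := QuotientGroup.mk' L
  have hcard : Nat.card (PresentedGroup Fi23P1.R ⧸ L) = 2 := by
    rw [← Subgroup.index_eq_card]; exact hL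
  haveI : Fact (Nat.Prime 2) := ⟨Nat.prime_two⟩
  have hcyc : IsCyclic (PresentedGroup Fi23P1.R ⧸ L) := isCyclic_of_prime_card hcard
  have hc : ∀ u v : PresentedGroup Fi23P1.R ⧸ L, u * v = v * u := by
    letI := hcyc
    letI : CommGroup (PresentedGroup Fi23P1.R ⧸ L) := IsCyclic.commGroup
    exact fun u v => mul_comm u v
  let t : Fi23P1D.Gen → PresentedGroup Fi23P1.R ⧸ L := fun x => q (PresentedGroup.mk Fi23P1.R (FreeGroup.of x))
  have hsq : ∀ x : Fi23P1D.Gen, t x * t x = 1 := by
    intro x
    have h := cox_rel x x (by cases x <;> decide) (by cases x <;> decide) 1 (by cases x <;> decide)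
    rw [pow_one] at h
    show q _ * q _ = 1
    rw [← map_mul, h, map_one]
  have hedge : ∀ x y : Fi23P1D.Gen, coxLabel Fi23P1D.edges x y = 3 → t x = t y := by
    intro x y hxy
    apply eq_of_edge3 hc _ _ (hsq x) (hsq y)
    have h := cox_rel x y (by cases x <;> decide) (by cases y <;> decide) 3 hxy
    show (q _ * q _) ^ 3 = 1
    rw [← map_mul, ← map_pow, h, map_one]
  have hb : t .b = t .a := (hedge .a .b (by decide)).symm
  have hcc : t .c = t .a := (hedge .b .c (by decide)).symm.trans hb
  have hd : t .d = t .a := (hedge .c .d (by decide)).symm.trans hcc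
  have he : t .e = t .a := (hedge .d .e (by decide)).symm.trans hd
  have hf : t .f = t .a := (hedge .e .f (by decide)).symm.trans he
  have hg : t .g = t .a := (hedge .f .g (by decide)).symm.trans hf
  have hh : t .h = t .a := (hedge .d .h (by decide)).symm.trans hd
  have hi : t .i = t .a := (hedge .h .i (by decide)).symm.trans hh
  -- the odd relator
  have hodd : (t .a * t .b * t .c * t .d * t .e * t .f * t .h) ^ 9 = 1 := by
    have h := (PresentedGroup.mk_eq_one_iff (rels := Fi23P1.R)).mpr (Subgroup.subset_normalClosure extra1_mem)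
    have h' := congrArg q h
    rw [map_one, map_pow] at h'
    simpa [map_mul, t] using h'
  rw [hb, hcc, hd, he, hf, hh] at hodd
  have h2 : t .a ^ 2 = 1 := by rw [pow_two]; exact hsq .a
  have ha : t .a = 1 := by
    have e7 : t .a * t .a * t .a * t .a * t .a * t .a * t .a = t .a ^ 7 := by
      simp only [pow_succ, pow_zero, one_mul]
    have e : (t .a ^ 7) ^ 9 = (t .a ^ 2) ^ 31 * t .a := by
      rw [← pow_mul, ← pow_mul, ← pow_succ]
    rw [e7, e, h2, one_pow, one_mul] at hodd
    exact hodd
  -- all generators die, so the quotient is trivial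
  have hall : ∀ x : Fi23P1D.Gen, t x = 1 := by
    intro x
    cases x
    · exact ha
    · rw [hb, ha]
    · rw [hcc, ha]
    · rw [hd, ha]
    · rw [he, ha]
    · rw [hf, ha]
    · rw [hg, ha]
    · rw [hh, ha]
    · rw [hi, ha]
  have hq : ∀ w : PresentedGroup Fi23P1.R, q w = 1 := by
    intro w
    have hw : w ∈ Subgroup.closure (Set.range (PresentedGroup.of (rels := Fi23P1.R))) := by
      rw [PresentedGroup.closure_range_of]; trivial
    induction hw using Subgroup.closure_induction with
    | mem y hy =>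
      obtain ⟨x, rfl⟩ := hy
      exact hall x
    | one => exact map_one q
    | mul a b _ _ ha hb => rw [map_mul, ha, hb, one_mul]
    | inv a _ ha => rw [map_inv, ha, inv_one]
  have hsub : Subsingleton (PresentedGroup Fi23P1.R ⧸ L) := by
    constructor
    intro u v
    obtain ⟨u', rfl⟩ := QuotientGroup.mk'_surjective L u
    obtain ⟨v', rfl⟩ := QuotientGroup.mk'_surjective L v
    rw [hq u', hq v']
  have : Nat.card (PresentedGroup Fi23P1.R ⧸ L) = 1 := Nat.card_unique
  omega

end Cfsg.Agent.Helper28.Fi23D
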